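import Cfsg.Agent.Lib.Thompson.HuppertMeta

/-!
Huppert's criterion: a `p`-group (`p` odd) whose `p`-th powers have index at most `p ^ 2` is metacyclic.
Adapted from the proof in `Lib/Thompson/HuppertMeta`.
-/

set_option autoImplicit false

namespace Cfsg.Agent.Lib.PGroupRankTwo

open Subgroup Cfsg.Agent.Lib.Thompson
open scoped commutatorElement

universe u

/-- Huppert: for odd `p`, a `p`-group whose `p`-th powers generate a subgroup of index at most `p ^ 2` is metacyclic. -/
theorem isMetacyclic_of_pow_index_le {R : Type u} [Group R] [Finite R] {p : ℕ} [hp : Fact p.Prime]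
    (hp2 : p ≠ 2) (hR : IsPGroup p R)
    (hO : (closure {y : R | ∃ x : R, y = x ^ p}).index ≤ p ^ 2) : Cfsg.IsMetacyclic R := by
  suffices key : ∀ (n : ℕ) (R : Type u) [Group R] [Finite R], Nat.card R = n → IsPGroup p R →
      (closure {y : R | ∃ x : R, y = x ^ p}).index ≤ p ^ 2 → Cfsg.IsMetacyclic R from key _ R rfl hR hO
  intro n
  induction n using Nat.strong_induction_on with
  | _ n ih =>
  intro R _ _ hn hR hO
  have hpp : p.Prime := hp.out
  -- the quotient by the `p`-th powers
  set U := closure {y : R | ∃ x : R, y = x ^ p} with hU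
  have hUn : U.Normal := ⟨fun y hy g => by
    have hle : U ≤ U.comap (MulAut.conj g).toMonoidHom := by
      refine (closure_le _).mpr ?_
      rintro _ ⟨x, rfl⟩
      exact subset_closure ⟨g * x * g⁻¹, (conj_pow).symm⟩
    exact hle hy⟩
  have hV : Nat.card (R ⧸ U) ≤ p ^ 2 := (index_eq_card U).symm.trans_le hO
  have hUΦ : U ≤ frattini R := (closure_le _).mpr (by
    rintro _ ⟨x, rfl⟩; exact PGroupFrattini.pow_mem_frattini hR x)
  have hVexp : ∀ v : R ⧸ U, v ^ p = 1 := fun v => by
    induction v using QuotientGroup.induction_on with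
    | H x => rw [← QuotientGroup.mk_pow, QuotientGroup.eq_one_iff]; exact subset_closure ⟨x, rfl⟩
  have hVab : ∀ a b : R ⧸ U, a * b = b * a := by
    obtain ⟨i, hi⟩ := IsPGroup.iff_card.mp (hR.to_quotient U)
    have h2 : i ≤ 2 := (Nat.pow_le_pow_iff_right hpp.one_lt).mp (hi ▸ hV)
    intro x y
    interval_cases i
    · haveI : Subsingleton (R ⧸ U) := (Nat.card_eq_one_iff_unique.mp (by simpa using hi)).1
      exact Subsingleton.elim _ _
    · haveI := isCyclic_of_prime_card (p := p) (by simpa using hi : Nat.card (R ⧸ U) = p)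
      exact (IsCyclic.commGroup (α := R ⧸ U)).mul_comm x y
    · exact (IsPGroup.isMulCommutative_of_card_eq_prime_sq hi).is_comm.comm x y
  have hDU : commutator R ≤ U := by
    rw [_root_.commutator_def, commutator_le]
    intro a _ b _
    rw [← QuotientGroup.eq_one_iff, ← QuotientGroup.mk'_apply, map_commutatorElement,
      commutatorElement_eq_one_iff_mul_comm]
    exact hVab _ _
  by_cases hsmall : commutator R ≤ center R ∧ Nat.card (commutator R) ≤ p
  · obtain ⟨hDc, hDp⟩ := hsmall
    have h2 : ⁅commutator R, (⊤ : Subgroup R)⁆ = ⊥ := by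
      rw [commutator_eq_bot_iff_le_centralizer, coe_top, centralizer_univ]; exact hDc
    have hc := commute_commutator_of_class_two h2
    have hD1 : ∀ d ∈ commutator R, d ^ p = 1 := by
      intro d hd
      rcases (hR.to_subgroup (commutator R)).card_eq_or_dvd with h | h
      · rw [card_eq_one.mp h, mem_bot] at hd
        rw [hd, one_pow]
      · have he := pow_card_eq_one' (x := (⟨d, hd⟩ : commutator R))
        rw [le_antisymm hDp (Nat.le_of_dvd Nat.card_pos h)] at he
        simpa using congrArg Subtype.val he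
    have hmul : ∀ x y : R, (x * y) ^ p = x ^ p * y ^ p := fun x y => by
      rw [mul_pow_class_two (mul_comm_eq x y) (hc _ _ x) (hc _ _ y),
        pow_choose_two_eq_one hp2 (hD1 _ (commutator_mem_commutator (mem_top _) (mem_top _))), mul_one]
    let f : R →* R := MonoidHom.mk' (fun x => x ^ p) hmul
    have hUf : ∀ w ∈ U, ∃ v : R, v ^ p = w := by
      intro w hw
      have : U ≤ f.range := (closure_le _).mpr (by rintro _ ⟨x, rfl⟩; exact ⟨x, rfl⟩)
      exact this hw
    have hDcyc : IsCyclic (commutator R) := by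
      rcases (hR.to_subgroup (commutator R)).card_eq_or_dvd with h | h
      · rw [card_eq_one.mp h]; infer_instance
      · exact isCyclic_of_prime_card (le_antisymm hDp (Nat.le_of_dvd Nat.card_pos h))
    obtain ⟨C, hDC, hC⟩ := Finite.exists_le_maximal
      (p := fun C : Subgroup R => IsCyclic C ∧ commutator R ≤ C) (a := commutator R) ⟨hDcyc, le_rfl⟩
    have hCn : C.Normal := by
      refine ⟨fun c hcC g => ?_⟩
      have h := mul_mem (hDC (commutator_mem_commutator (mem_top g) (mem_top c))) hcC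
      simpa [commutatorElement_def] using h
    refine ⟨C, hCn, hC.prop.1, ?_⟩
    obtain ⟨⟨w, hwC⟩, hw⟩ := hC.prop.1.exists_generator
    have hCw : C = zpowers w := le_antisymm (fun c hc => by
      obtain ⟨i, hi⟩ := hw ⟨c, hc⟩
      exact ⟨i, by simpa using congrArg Subtype.val hi⟩) (zpowers_le.mpr hwC)
    by_cases hw1 : w = 1
    · have : Subsingleton R := by
        refine ⟨fun a b => ?_⟩
        have hall : ∀ v : R, v = 1 := fun v => by
          have hle : C ≤ zpowers v := by rw [hCw, hw1, zpowers_one_eq_bot]; exact bot_le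
          have h := hC.le_of_ge ⟨inferInstance, hDC.trans hle⟩ hle (mem_zpowers v)
          rw [hCw, hw1, zpowers_one_eq_bot, mem_bot] at h
          exact h
        rw [hall a, hall b]
      have : Subsingleton (R ⧸ C) := Quotient.instSubsingletonQuotient _
      infer_instance
    have hwU : w ∉ U := by
      intro hwU
      obtain ⟨v, rfl⟩ := hUf w hwU
      have hle : C ≤ zpowers v := by rw [hCw]; exact zpowers_le.mpr (pow_mem (mem_zpowers v) p)
      have h := hC.le_of_ge ⟨inferInstance, hDC.trans hle⟩ hle (mem_zpowers v)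
      rw [hCw] at h
      obtain ⟨i, hi⟩ := mem_zpowers_iff.mp h
      have hd1 : (orderOf v : ℤ) ∣ (p : ℤ) * i - 1 := by
        rw [orderOf_dvd_iff_zpow_eq_one, zpow_sub, zpow_mul, zpow_natCast, hi, zpow_one, mul_inv_cancel]
      obtain ⟨m, hm⟩ := IsPGroup.iff_orderOf.mp hR v
      cases m with
      | zero => exact hw1 (by rw [(orderOf_eq_one_iff (x := v)).mp (by simpa using hm), one_pow])
      | succ m =>
        have h2 : (p : ℤ) ∣ (p : ℤ) * i - 1 := dvd_trans ⟨(p : ℤ) ^ m, by rw [hm, pow_succ']; push_cast; ring⟩ hd1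
        have h3 : (p : ℤ) ∣ 1 := by simpa using (dvd_mul_right (p : ℤ) i).sub h2
        have h4 := Int.eq_one_of_dvd_one (Int.natCast_nonneg p) h3
        exact hpp.ne_one (by exact_mod_cast h4)
    -- generate `V` over the image of `w`
    let π := QuotientGroup.mk' U
    set W' := zpowers (π w) with hW'
    have hπw : π w ≠ 1 := fun h => hwU ((QuotientGroup.eq_one_iff w).mp h)
    have hW'card : Nat.card W' = p := by rw [hW', Nat.card_zpowers, orderOf_eq_prime (hVexp _) hπw]
    obtain ⟨v, hv⟩ : ∃ v : R, W' ⊔ zpowers (π v) = ⊤ := by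
      by_cases hWt : W' = ⊤
      · exact ⟨1, by rw [hWt, top_sup_eq]⟩
      obtain ⟨q, -, hq⟩ := SetLike.exists_of_lt (lt_of_le_of_ne le_top hWt)
      obtain ⟨v, rfl⟩ := QuotientGroup.mk'_surjective U q
      refine ⟨v, eq_of_le_of_card_ge le_top ?_⟩
      have hlt : W' < W' ⊔ zpowers (π v) :=
        lt_of_le_of_ne le_sup_left fun e => hq (e ▸ mem_sup_right (mem_zpowers (π v)))
      have := card_mul_p_le (hR.to_quotient U) hlt
      rw [hW'card, ← pow_two] at this
      rw [card_top]
      exact hV.trans this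
    have hgen : zpowers w ⊔ zpowers v = ⊤ := by
      refine frattini_nongenerating (top_le_iff.mp fun x _ => ?_)
      have h := hv.ge (mem_top (π x))
      rw [hW', ← MonoidHom.map_zpowers, ← MonoidHom.map_zpowers, ← Subgroup.map_sup] at h
      obtain ⟨y, hy, hyx⟩ := h
      have : y⁻¹ * x ∈ U := QuotientGroup.eq.mp hyx
      have h' := mul_mem (mem_sup_left (T := frattini R) hy) (mem_sup_right (hUΦ this))
      simpa using h'
    refine isCyclic_iff_exists_zpowers_eq_top.mpr ⟨QuotientGroup.mk' C v, ?_⟩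
    rw [← MonoidHom.map_zpowers, eq_top_iff, ← map_top_of_surjective _ (QuotientGroup.mk'_surjective C),
      ← hgen, Subgroup.map_sup, sup_le_iff]
    refine ⟨le_of_eq_of_le ((Subgroup.map_eq_bot_iff _).mpr ?_) bot_le, le_rfl⟩
    rw [QuotientGroup.ker_mk', hCw]
  -- pass to the quotient by a central subgroup of order `p` inside the derived subgroup
  have hne : commutator R ≠ ⊥ := fun h => hsmall ⟨h ▸ bot_le, by rw [h, card_bot]; exact hpp.one_lt.le⟩
  obtain ⟨z, hzD, hzc, hzo⟩ := exists_central_order_p hR hne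
  have hzn : (zpowers z).Normal := normal_of_le_center (zpowers_le.mpr hzc)
  have hcard : Nat.card (zpowers z) = p := by rw [Nat.card_zpowers, hzo]
  have hlt : Nat.card (R ⧸ zpowers z) < n := by
    rw [← hn, ← (zpowers z).card_mul_index, index_eq_card, hcard]
    exact lt_mul_of_one_lt_left Nat.card_pos hpp.one_lt
  obtain ⟨A', hA'n, hA'c, hA'q⟩ := ih _ hlt (R ⧸ zpowers z) rfl (hR.to_quotient _)
    (by
      refine le_trans (Nat.le_of_dvd (Nat.pos_of_ne_zero FiniteIndex.index_ne_zero) ?_) hO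
      have hs : Function.Surjective (QuotientGroup.mk' (zpowers z)) := QuotientGroup.mk'_surjective _
      refine dvd_trans (index_dvd_of_le (H := U.map (QuotientGroup.mk' (zpowers z))) ?_) (U.index_map_dvd hs)
      rw [hU, MonoidHom.map_closure]
      refine closure_mono ?_
      rintro _ ⟨_, ⟨x, rfl⟩, rfl⟩
      exact ⟨QuotientGroup.mk' _ x, map_pow _ _ _⟩)
  let π := QuotientGroup.mk' (zpowers z)
  have hπs : Function.Surjective π := QuotientGroup.mk'_surjective _
  set A := A'.comap π with hA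
  have hAn : A.Normal := hA'n.comap π
  have hquot : IsCyclic (R ⧸ A) := by
    haveI := hA'q
    let φ : R ⧸ A →* (R ⧸ zpowers z) ⧸ A' := QuotientGroup.map A A' π le_rfl
    refine isCyclic_of_injective φ ((injective_iff_map_eq_one φ).mpr fun q hq => ?_)
    induction q using QuotientGroup.induction_on with
    | H x =>
      exact (QuotientGroup.eq_one_iff x).mpr ((QuotientGroup.eq_one_iff (π x)).mp hq)
  obtain ⟨⟨g', hg'A⟩, hg'⟩ := hA'c.exists_generator
  obtain ⟨a, rfl⟩ := hπs g'
  have hzA : z ∈ A := by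
    rw [hA, mem_comap, show π z = 1 from (QuotientGroup.eq_one_iff z).mpr (mem_zpowers z)]; exact one_mem _
  have hAeq : ∀ x ∈ A, ∃ i j : ℤ, x = a ^ i * z ^ j := by
    intro x hx
    obtain ⟨i, hi⟩ := hg' ⟨π x, hx⟩
    have hi' : π (a ^ i) = π x := by rw [map_zpow]; simpa using congrArg Subtype.val hi
    obtain ⟨j, hj⟩ := mem_zpowers_iff.mp (QuotientGroup.eq.mp hi')
    exact ⟨i, j, by rw [hj, mul_inv_cancel_left]⟩
  have haA : a ∈ A := hg'A
  by_cases hza : z ∈ zpowers a
  · refine ⟨A, hAn, ?_, hquot⟩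
    have hAa : A = zpowers a := le_antisymm (fun x hx => by
      obtain ⟨i, j, rfl⟩ := hAeq x hx
      exact mul_mem (zpow_mem (mem_zpowers a) i) (zpow_mem hza j)) (zpowers_le.mpr haA)
    rw [hAa]; infer_instance
  exfalso
  obtain ⟨q, hq⟩ := hquot.exists_generator
  obtain ⟨b, rfl⟩ := QuotientGroup.mk'_surjective A q
  have hcz : ∀ w : R, Commute z w := fun w => (mem_center_iff.mp hzc w).symm
  have hAcomm : ∀ x ∈ A, ∀ y ∈ A, Commute x y := by
    intro x hx y hy
    obtain ⟨i, j, rfl⟩ := hAeq x hx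
    obtain ⟨k, l, rfl⟩ := hAeq y hy
    have hz' : ∀ (m : ℤ) (w : R), Commute (z ^ m) w := fun m w => (hcz w).zpow_left m
    exact (((Commute.refl a).zpow_zpow i k).mul_right ((hz' l _).symm)).mul_left (hz' j _)
  -- commutation with `b`
  let φ : A →* A :=
    { toFun := fun u => ⟨b * u * b⁻¹ * (u : R)⁻¹, mul_mem (hAn.conj_mem u u.2 b) (inv_mem u.2)⟩
      map_one' := Subtype.ext (by simp)
      map_mul' := fun u v => Subtype.ext (by
        show b * (u * v : R) * b⁻¹ * ((u : R) * v)⁻¹ = (b * u * b⁻¹ * (u : R)⁻¹) * (b * v * b⁻¹ * (v : R)⁻¹)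
        have h1 : Commute (u : R)⁻¹ (b * v * b⁻¹ * (v : R)⁻¹) :=
          hAcomm _ (inv_mem u.2) _ (mul_mem (hAn.conj_mem v v.2 b) (inv_mem v.2))
        calc b * ((u : R) * v) * b⁻¹ * ((u : R) * v)⁻¹
            = b * u * b⁻¹ * ((b * v * b⁻¹ * (v : R)⁻¹) * (u : R)⁻¹) := by group
          _ = _ := by rw [← h1.eq]; group) }
  set c := φ ⟨a, haA⟩ with hc
  have hφ : ∀ u : A, ((φ u : A) : R) ∈ zpowers (c : R) := by
    intro u
    obtain ⟨i, j, hu⟩ := hAeq u u.2
    have hz1 : φ ⟨z, hzA⟩ = 1 := Subtype.ext (by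
      show b * z * b⁻¹ * z⁻¹ = 1
      rw [← (hcz b).eq]; group)
    have hu' : u = (⟨a, haA⟩ : A) ^ i * (⟨z, hzA⟩ : A) ^ j := Subtype.ext (by simpa using hu)
    rw [hu', map_mul, map_zpow, map_zpow, hz1, one_zpow, mul_one, ← hc]
    exact ⟨i, by simp⟩
  set K := zpowers (c : R) with hK
  have hgen : ∀ x : R, ∃ u ∈ A, ∃ i : ℤ, x = b ^ i * u := by
    intro x
    obtain ⟨i, hi⟩ := hq (x : R ⧸ A)
    have hi' : ((b ^ i : R) : R ⧸ A) = (x : R ⧸ A) := by rw [QuotientGroup.mk_zpow]; exact hi
    exact ⟨_, QuotientGroup.eq.mp hi', i, by group⟩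
  have hKn : K.Normal := by
    have hle : closure ({b} ∪ (A : Set R)) = ⊤ := eq_top_iff.mpr fun x _ => by
      obtain ⟨u, hu, i, rfl⟩ := hgen x
      exact mul_mem (zpow_mem (Subgroup.subset_closure (by simp)) i) (Subgroup.subset_closure (by simp [hu]))
    rw [← normalizer_eq_top_iff, eq_top_iff, ← hle, closure_le]
    rintro x (rfl | hx)
    · refine Subgroup.mem_normalizer_iff_map_conj_eq.mpr ?_
      refine eq_of_le_of_card_ge ?_ (by rw [card_map_of_injective (MulAut.conj x).injective])
      rw [hK, MonoidHom.map_zpowers, zpowers_le]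
      have h := hφ ⟨x * a * x⁻¹, hAn.conj_mem a haA x⟩
      show x * (c : R) * x⁻¹ ∈ zpowers (c : R)
      have e : x * (c : R) * x⁻¹ = x * (x * a * x⁻¹) * x⁻¹ * (x * a * x⁻¹)⁻¹ := by
        show x * (x * a * x⁻¹ * a⁻¹) * x⁻¹ = _
        group
      rw [e]; exact h
    · refine centralizer_le_normalizer _ (mem_centralizer_iff.mpr fun k hk => ?_)
      have hkA : k ∈ A := (zpowers_le.mpr c.2) hk
      exact (hAcomm k hkA x hx).eq
  have hDK : commutator R ≤ K := by
    have hcom : ∀ u ∈ A, Commute (QuotientGroup.mk' K b) (QuotientGroup.mk' K u) := by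
      intro u hu
      show QuotientGroup.mk' K b * QuotientGroup.mk' K u = QuotientGroup.mk' K u * QuotientGroup.mk' K b
      rw [← commutatorElement_eq_one_iff_mul_comm, ← map_commutatorElement,
        QuotientGroup.mk'_apply, QuotientGroup.eq_one_iff]
      exact hφ ⟨u, hu⟩
    rw [_root_.commutator_def, commutator_le]
    intro x _ y _
    rw [← QuotientGroup.eq_one_iff, ← QuotientGroup.mk'_apply, map_commutatorElement,
      commutatorElement_eq_one_iff_mul_comm]
    obtain ⟨u, hu, i, rfl⟩ := hgen x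
    obtain ⟨v, hv, k, rfl⟩ := hgen y
    simp only [map_mul, map_zpow]
    have huv : Commute (QuotientGroup.mk' K u) (QuotientGroup.mk' K v) := (hAcomm u hu v hv).map _
    exact ((((Commute.refl _).zpow_zpow i k).mul_right ((hcom v hv).zpow_left i)).mul_left
      ((((hcom u hu).zpow_left k).symm).mul_right huv)).eq
  obtain ⟨i, hi⟩ := mem_zpowers_iff.mp (hDK hzD)
  obtain ⟨s, t, hst⟩ := hAeq (c : R) c.2
  obtain ⟨m, hm⟩ := IsPGroup.iff_orderOf.mp hR (c : R)
  rcases Nat.lt_or_ge m 2 with hm2 | hm2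
  · refine hsmall ?_
    have hle : Nat.card K ≤ p := by
      rw [hK, Nat.card_zpowers, hm]
      calc p ^ m ≤ p ^ 1 := Nat.pow_le_pow_right hpp.pos (by omega)
        _ = p := pow_one p
    have heq : zpowers z = K := eq_of_le_of_card_ge (zpowers_le.mpr (hDK hzD)) (by rw [hcard]; exact hle)
    exact ⟨hDK.trans (heq ▸ zpowers_le.mpr hzc), (card_le_of_le hDK).trans hle⟩
  · refine hza ?_
    have hzp : z ^ (p : ℤ) = 1 := by rw [zpow_natCast, ← hzo, pow_orderOf_eq_one]
    have hd : ((p : ℤ) ^ m) ∣ i * p := by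
      have : (orderOf (c : R) : ℤ) ∣ i * p := by
        rw [orderOf_dvd_iff_zpow_eq_one, zpow_mul, hi, hzp]
      rwa [hm, Nat.cast_pow] at this
    have hdi : (p : ℤ) ∣ i := by
      have h1 : ((p : ℤ) ^ (m - 1)) * p ∣ i * p := by
        rwa [← pow_succ, Nat.sub_add_cancel (by omega : 1 ≤ m)]
      exact dvd_trans (dvd_pow_self (p : ℤ) (by omega)) (Int.dvd_of_mul_dvd_mul_right
        (Int.natCast_ne_zero.mpr hpp.ne_zero) h1)
    obtain ⟨j, rfl⟩ := hdi
    have hzc' : Commute (a ^ s) (z ^ t) := ((hcz _).zpow_left t).symm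
    refine ⟨s * ((p : ℤ) * j), ?_⟩
    show a ^ (s * ((p : ℤ) * j)) = z
    rw [zpow_mul]
    refine Eq.trans ?_ hi
    rw [hst, hzc'.mul_zpow, ← zpow_mul z, show t * ((p : ℤ) * j) = (p : ℤ) * (t * j) by ring,
      zpow_mul z, hzp, one_zpow, mul_one]

end Cfsg.Agent.Lib.PGroupRankTwo
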